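import Groth.Agent.L20.DescLocus.AppIsoH0
import Groth.Agent.L20.GeomFibre
import Groth.Agent.L08.Cube.FibreFun
import Mathlib.FieldTheory.IsAlgClosed.AlgebraicClosure

/-!
Functions on proper flat families with reduced connected geometric fibres.
-/

set_option autoImplicit false
set_option linter.style.haveILetI false
set_option backward.isDefEq.respectTransparency.types false
set_option backward.isDefEq.respectTransparency false

universe u

open CategoryTheory CategoryTheory.Limits AlgebraicGeometry

noncomputable section

namespace Groth.L02.PicUnion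

variable {X B : Scheme.{u}} (f : X ⟶ B)

theorem geometrically_of_algClosed
    (h : ∀ (K : Type u) [Field K] [IsAlgClosed K] (g : Spec (CommRingCat.of K) ⟶ B),
      IsReduced (pullback f g) ∧ ConnectedSpace ↥(pullback f g)) :
    GeometricallyReduced f ∧ GeometricallyConnected f := by
  have key : ∀ ⦃K : Type u⦄ [Field K] (y : Spec (CommRingCat.of K) ⟶ B) ⦃Z : Scheme.{u}⦄ (fst : Z ⟶ X)
      (snd : Z ⟶ Spec (CommRingCat.of K)), IsPullback fst snd f y → IsReduced Z ∧ ConnectedSpace ↥Z := by
    intro K _ y Z fst snd sq
    let L := AlgebraicClosure K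
    let σ : Spec (CommRingCat.of L) ⟶ Spec (CommRingCat.of K) := Spec.map (CommRingCat.ofHom (algebraMap K L))
    haveI : Flat σ := (HasRingHomProperty.Spec_iff (P := @Flat)).2 (RingHom.flat_algebraMap_iff.mpr inferInstance)
    haveI : Surjective σ := ⟨fun s => ⟨IsLocalRing.closedPoint L, Subsingleton.elim (α := PrimeSpectrum K) _ _⟩⟩
    have sq' : IsPullback (pullback.fst snd σ ≫ fst) (pullback.snd snd σ) f (σ ≫ y) :=
      (IsPullback.of_hasPullback snd σ).paste_horiz sq
    obtain ⟨hr, hc⟩ := h L (σ ≫ y)
    haveI : IsReduced (pullback f (σ ≫ y)) := hr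
    haveI : IsReduced (pullback snd σ) := isReduced_of_isOpenImmersion sq'.isoPullback.hom
    haveI : Surjective (pullback.fst snd σ) := MorphismProperty.pullback_fst _ _ inferInstance
    haveI : Flat (pullback.fst snd σ) := MorphismProperty.pullback_fst _ _ inferInstance
    refine ⟨Groth.L20.isReduced_of_surjective_of_flat (pullback.fst snd σ), ?_⟩
    haveI : ConnectedSpace ↥(pullback snd σ) :=
      (sq'.isoPullback.inv.homeomorph.surjective).connectedSpace sq'.isoPullback.inv.continuous
    exact (pullback.fst snd σ).surjective.connectedSpace (pullback.fst snd σ).continuous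
  exact ⟨⟨fun K _ y Z fst snd sq => (key y fst snd sq).1⟩, ⟨fun K _ y Z fst snd sq => (key y fst snd sq).2⟩⟩

theorem bijective_appTop_of_geometric [IsProper f] [Flat f] [LocallyOfFinitePresentation f] [GeometricallyReduced f]
    [GeometricallyConnected f] (hs : Function.Surjective f) : Function.Bijective f.appTop := by
  have hq : ∀ (s : B) (U : (Spec (B.residueField s)).Opens), IsIso ((f.fiberToSpecResidueField s).app U) := by
    intro s U
    let q : f.fiber s ⟶ Spec (CommRingCat.of (B.residueField s)) := f.fiberToSpecResidueField s
    have sq : IsPullback (f.fiberι s) q f (B.fromSpecResidueField s) := IsPullback.of_hasPullback _ _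
    haveI : IsProper q := MorphismProperty.of_isPullback sq ‹IsProper f›
    haveI : GeometricallyReduced q := MorphismProperty.of_isPullback sq ‹GeometricallyReduced f›
    haveI : GeometricallyConnected q := MorphismProperty.of_isPullback sq ‹GeometricallyConnected f›
    haveI : Nonempty (f.fiber s) := by
      obtain ⟨x, hx⟩ := hs s
      obtain ⟨z, -⟩ : x ∈ Set.range (f.fiberι s) := by rw [Scheme.Hom.range_fiberι]; exact hx
      exact ⟨z⟩
    have hb := Groth.L08.Cube.bijective_toGlobal_of_geometric q
    refine Groth.L20.DescLocus.isIso_app_of_appTop q ?_ U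
    let e := (Scheme.ΓSpecIso (CommRingCat.of (B.residueField s))).commRingCatIsoToRingEquiv
    have he : (q.appTop : _ → _) = Coh.toGlobal q ∘ e := funext fun x =>
      (congrArg q.appTop (Iso.hom_inv_id_apply (Scheme.ΓSpecIso (CommRingCat.of (B.residueField s))) x)).symm
    show Function.Bijective (q.appTop : _ → _)
    rw [he]
    exact hb.comp e.bijective
  haveI := Groth.L20.DescLocus.isIso_app_universally f hq (𝟙 X) f (𝟙 B) IsPullback.of_id_fst ⊤
  exact ConcreteCategory.bijective_of_isIso (f.app ⊤)

end Groth.L02.PicUnion
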